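import Cfsg.Agent.M23.Block
import Cfsg.Agent.M23.Sylow23
set_option linter.all false

/-!
# Degrees and sums over a Sylow 23-subgroup

In a simple group of order `10200960` a Sylow 23-subgroup `P` is self-centralizing with
`|N(P) : P| = 11`; hence (Brauer) the sum of an irreducible character over the nontrivial elements
of `P` is determined by the degree modulo 23.
-/

set_option autoImplicit false

namespace Cfsg.Agent.M23.Adm

open Cfsg Cfsg.Agent.Characters.Core
open Cfsg.Agent.Blocks.Basic (irr_one_eq_charDegree)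
open Cfsg.Agent.SmallSimple Cfsg.Agent.M22.NonSelfCent Cfsg.Agent.M23.Block

universe u

variable {G : Type u} [Group G] [Finite G]

open scoped Classical in
/-- The sum of `χ` over the nontrivial elements of `P`. -/
noncomputable def V (P : Subgroup G) (χ : G → ℂ) : ℂ :=
  ∑ᶠ x : {x : P // x ≠ 1}, χ (x : P)

omit [Finite G] in
theorem V_eq (P : Subgroup G) (χ : G → ℂ) [Fintype {x : P // x ≠ 1}] :
    V P χ = ∑ x : {x : P // x ≠ 1}, χ (x : P) := by
  unfold V
  rw [finsum_eq_sum_of_fintype]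

theorem card_ne_one (P : Subgroup G) [Fintype {x : P // x ≠ 1}] :
    Fintype.card {x : P // x ≠ 1} = Nat.card P - 1 := by
  classical
  have := Fintype.ofFinite P
  rw [Nat.card_eq_fintype_card]
  have h := Fintype.card_subtype_compl (fun x : P => x = 1)
  rw [Fintype.card_subtype_eq] at h
  convert h using 2

/-- `χ 1 + V P χ` is `|P|` times a natural number. -/
theorem exists_add_V {χ : G → ℂ} (hχ : IsCharacter G χ) (P : Subgroup G) :
    ∃ m : ℕ, χ 1 + V P χ = Nat.card P * m := by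
  classical
  have := Fintype.ofFinite P
  have := Fintype.ofFinite {x : P // x ≠ 1}
  obtain ⟨m, hm⟩ := TheoremBCor.exists_sum_eq hχ P
  refine ⟨m, ?_⟩
  rw [mul_comm, ← hm, V_eq, ← Finset.add_sum_erase Finset.univ (fun x : P => χ x) (Finset.mem_univ 1)]
  congr 1
  exact (Finset.sum_subtype (Finset.univ.erase (1 : P)) (fun x => by simp)
    (fun x : P => χ (x : G))).symm

/-- Relations between characters at the elements of `P` sum up. -/
theorem sum_V {ι : Type*} (s : Finset ι) (c : ι → ℂ) (f : ι → G → ℂ) (P : Subgroup G)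
    {g : G → ℂ} {d : ℂ} (h : ∀ x ∈ P, x ≠ 1 → ∑ i ∈ s, c i * f i x = d * g x) :
    ∑ i ∈ s, c i * V P (f i) = d * V P g := by
  classical
  have := Fintype.ofFinite {x : P // x ≠ 1}
  simp only [V_eq, Finset.mul_sum]
  rw [Finset.sum_comm]
  refine Finset.sum_congr rfl fun x _ => ?_
  exact h x.1 x.1.2 fun h' => x.2 (Subtype.ext h')

theorem V_const {χ : G → ℂ} (P : Subgroup G) {c : ℂ} (h : ∀ x ∈ P, x ≠ 1 → χ x = c) :
    V P χ = (Nat.card P - 1 : ℕ) * c := by
  classical
  have := Fintype.ofFinite {x : P // x ≠ 1}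
  rw [V_eq, Finset.sum_congr rfl (g := fun _ => c) (fun x _ => h x.1 x.1.2
    fun h' => x.2 (Subtype.ext h')), Finset.sum_const, Finset.card_univ, card_ne_one,
    nsmul_eq_mul]

/-- The sum of the values of the elements of a set of nontrivial linear characters. -/
theorem V_sum_hom {P : Subgroup G} {S : Finset (P →* ℂˣ)} (hS : 1 ∉ S) {χ : G → ℂ} {d : ℂ}
    (h : ∀ x : P, x ≠ 1 → χ x = d * ∑ l ∈ S, ((l x : ℂˣ) : ℂ)) :
    V P χ = -d * S.card := by
  classical
  have := Fintype.ofFinite P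
  have := Fintype.ofFinite {x : P // x ≠ 1}
  have hl : ∀ l ∈ S, ∑ x : {x : P // x ≠ 1}, ((l (x : P) : ℂˣ) : ℂ) = -1 := by
    intro l hl
    have h1 : ∑ x : P, ((l x : ℂˣ) : ℂ) = 0 := PrimeDual.sum_hom_eq_zero (by
      rintro rfl; exact hS hl)
    rw [← Finset.add_sum_erase Finset.univ _ (Finset.mem_univ (1 : P)), map_one,
      Units.val_one] at h1
    have h2 : ∑ x ∈ Finset.univ.erase (1 : P), ((l x : ℂˣ) : ℂ) =
        ∑ x : {x : P // x ≠ 1}, ((l (x : P) : ℂˣ) : ℂ) :=
      Finset.sum_subtype _ (fun x => by simp) _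
    rw [← h2]
    linear_combination h1
  rw [V_eq, Finset.sum_congr rfl (fun x _ => h x.1 x.2), ← Finset.mul_sum, Finset.sum_comm,
    Finset.sum_congr rfl hl, Finset.sum_const, nsmul_eq_mul]
  ring

/-- The possibilities for the degree modulo 23 and the sum over `P`. -/
def AdmAt (n : ℕ) (s : ℤ) : Prop :=
  (n % 23 = 0 ∧ s = 0) ∨ (n % 23 = 1 ∧ s = 22) ∨ (n % 23 = 22 ∧ s = -22) ∨
    (n % 23 = 11 ∧ s = -11) ∨ (n % 23 = 12 ∧ s = 11)

theorem adm [IsSimpleGroup G] (hcard : Nat.card G = 10200960) (P : Sylow 23 G)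
    (χ : IrrCharacter G) :
    ∃ s : ℤ, V (P : Subgroup G) (χ : G → ℂ) = s ∧ AdmAt (charDegree (χ : G → ℂ)) s := by
  have hp : Fact (Nat.Prime 23) := ⟨by norm_num⟩
  have hP : Nat.card (P : Subgroup G) = 23 := Sylow23.card_sylow hcard P
  obtain ⟨NE, X, ε, d, S, h1, h2, h3, h4, h5, h6, h7, h8, h9, h10, h11⟩ :=
    TheoremBCor.theoremB_selfCent 23 (by norm_num) P hP (Sylow23.centralizer_eq hcard P) 11 2
      (Sylow23.relIndex_eq hcard P) (by norm_num)
  obtain ⟨m, hm⟩ := exists_add_V (isIrr_isCharacter χ.2) (P : Subgroup G)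
  rw [irr_one_eq_charDegree χ.2, hP] at hm
  have key : ∀ s : ℤ, V (P : Subgroup G) (χ : G → ℂ) = s →
      (charDegree (χ : G → ℂ) : ℤ) + s = 23 * m := by
    intro s hs
    rw [hs] at hm
    exact_mod_cast hm
  by_cases hNE : χ ∈ NE
  · have hV := V_const (P : Subgroup G) (h7 χ hNE)
    rw [hP] at hV
    rcases h4 χ hNE with hε | hε
    · refine ⟨22, by rw [hV, hε]; norm_num, ?_⟩
      have := key 22 (by rw [hV, hε]; norm_num)
      unfold AdmAt; omega
    · refine ⟨-22, by rw [hV, hε]; norm_num, ?_⟩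
      have := key (-22) (by rw [hV, hε]; norm_num)
      unfold AdmAt; omega
  · by_cases hX : χ ∈ X
    · obtain ⟨hS1, hS2, hS3⟩ := h8 χ hX
      have hV := V_sum_hom hS2 hS3
      rw [hS1] at hV
      rcases h5 with hd | hd
      · refine ⟨-11, by rw [hV, hd]; norm_num, ?_⟩
        have := key (-11) (by rw [hV, hd]; norm_num)
        unfold AdmAt; omega
      · refine ⟨11, by rw [hV, hd]; norm_num, ?_⟩
        have := key 11 (by rw [hV, hd]; norm_num)
        unfold AdmAt; omega
    · have hV := V_const (P : Subgroup G) (h11 χ hNE hX).1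
      refine ⟨0, by rw [hV]; norm_num, ?_⟩
      have := key 0 (by rw [hV]; norm_num)
      unfold AdmAt; omega

end Cfsg.Agent.M23.Adm
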